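import Groth.Agent.KFlat.Flat
import Groth.Agent.Topos.ModExtZero
import Groth.Agent.ModFlat.Cocont
import Mathlib.CategoryTheory.Abelian.Exact

/-!
# Extension by zero on a ringed site as sheafified `⨁`
-/

set_option autoImplicit false

universe u

open CategoryTheory CategoryTheory.Limits Opposite
open ModSite Groth.Agent.KFlat

namespace Groth.Agent.ModExt

open scoped Classical

variable {C : Type u} [SmallCategory C] {J : GrothendieckTopology C} (O : Sheaf J CommRingCat.{u})
  (U : C)

/-- Restriction of presheaves of modules to `C/U`. -/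
noncomputable abbrev restrPre : preMod O ⥤ preMod (O.over U) :=
  Topos.ModExtZero.restr U (ringSh O)

/-- Extension by zero of presheaves of modules. -/
noncomputable abbrev extPre : preMod (O.over U) ⥤ preMod O :=
  Topos.ModExtZero.ext0 U (ringSh O)

/-- Extension by zero is left adjoint to restriction, for presheaves. -/
noncomputable abbrev extPreAdj : extPre O U ⊣ restrPre O U :=
  Topos.ModExtZero.adjunction U (ringSh O)

instance isRightAdjoint_restrPre : (restrPre O U).IsRightAdjoint := (extPreAdj O U).isRightAdjoint

instance isLeftAdjoint_extPre : (extPre O U).IsLeftAdjoint := (extPreAdj O U).isLeftAdjoint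

instance isLeftAdjoint_extZero : (extZero O U).IsLeftAdjoint := (extZeroAdj O U).isLeftAdjoint

/-- Extension by zero is the sheafification of `⨁`. -/
noncomputable def extZeroIso : extZero O U ≅ toPre (O.over U) ⋙ extPre O U ⋙ shPre O :=
  haveI : (PresheafOfModules.pushforward.{u} (F := Over.forget U)
      (𝟙 ((ringSh O).over U).obj)).IsRightAdjoint := (extPreAdj O U).isRightAdjoint
  SheafOfModules.pullbackIso (𝟙 ((ringSh O).over U)) ≪≫
    Functor.isoWhiskerLeft (SheafOfModules.forget _)
      (Functor.isoWhiskerRight (Adjunction.leftAdjointUniq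
        (PresheafOfModules.pullbackPushforwardAdjunction (𝟙 ((ringSh O).over U).obj))
        (extPreAdj O U)) (shPre O))

/-- Extension by zero commutes with sheafification. -/
noncomputable def shPreExtZeroIso : shPre (O.over U) ⋙ extZero O U ≅ extPre O U ⋙ shPre O :=
  Adjunction.leftAdjointUniq ((preAdj (O.over U)).comp (extZeroAdj O U))
    (((extPreAdj O U).comp (preAdj O)).ofNatIsoRight (Iso.refl _ : toPre O ⋙ restrPre O U ≅ _))

instance additive_restr : (restr O U).Additive where
  map_add := rfl

instance additive_extZero : (extZero O U).Additive :=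
  (extZeroAdj O U).left_adjoint_additive

theorem mono_extPre_map {M N : PresheafOfModules.{u} ((ringSh O).over U).obj} (φ : M ⟶ N) [Mono φ] :
    Mono ((extPre O U).map φ) :=
  PresheafOfModules.mono_of_injective fun {W} =>
    Topos.ModExtZero.extMap_injective (X := U) (A := ringSh O) φ
      (PresheafOfModules.injective_of_mono φ) W

instance preservesMonomorphisms_extZero : (extZero O U).PreservesMonomorphisms := by
  have : (toPre (O.over U) ⋙ extPre O U ⋙ shPre O).PreservesMonomorphisms := by
    have h₁ : (extPre O U).PreservesMonomorphisms := ⟨fun φ h => @mono_extPre_map _ _ _ O U _ _ φ h⟩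
    have h₂ : (toPre (O.over U)).PreservesMonomorphisms := inferInstance
    have h₃ : (shPre O).PreservesMonomorphisms :=
      inferInstanceAs (PresheafOfModules.sheafification.{u} (𝟙 (ringSh O).obj)).PreservesMonomorphisms
    infer_instance
  exact Functor.PreservesMonomorphisms.of_iso (extZeroIso O U).symm

instance preservesHomology_extZero : (extZero O U).PreservesHomology :=
  Functor.preservesHomology_of_preservesMonos_and_cokernels _

instance preservesFiniteLimits_extZero : PreservesFiniteLimits (extZero O U) :=
  Functor.preservesFiniteLimits_of_preservesHomology _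

/-- The unit, on presheaves. -/
noncomputable def unitPre (M : Mod (O.over U)) :
    (toPre _).obj M ⟶ (restrPre O U).obj ((toPre O).obj ((shPre O).obj ((extPre O U).obj ((toPre _).obj M)))) :=
  (extPreAdj O U).unit.app _ ≫ (restrPre O U).map ((preAdj O).unit.app _)

theorem unitPre_injective (M : Mod (O.over U)) (W : (Over U)ᵒᵖ) :
    Function.Injective ((unitPre O U M).app W) := by
  intro x y e
  obtain ⟨hinj, -⟩ := (isIso_shPre_map_iff ((preAdj O).unit.app
    ((extPre O U).obj ((toPre _).obj M)))).1 inferInstance
  have hunit : ∀ (W : (Over U)ᵒᵖ), Function.Injective (((extPreAdj O U).unit.app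
      ((toPre _).obj M)).app W) := fun W => by
    rw [Topos.ModExtZero.unit_eq]
    exact Topos.ModExtZero.unit_injective W
  have hcov := Presheaf.equalizerSieve_mem J
    ((PresheafOfModules.toPresheaf _).map ((preAdj O).unit.app ((extPre O U).obj ((toPre _).obj M))))
    (((extPreAdj O U).unit.app ((toPre _).obj M)).app W x)
    (((extPreAdj O U).unit.app ((toPre _).obj M)).app W y) e
  have hM : Presieve.IsSheaf (J.over U) (M.val.presheaf ⋙ forget AddCommGrpCat.{u}) :=
    (isSheaf_iff_isSheaf_of_type _ _).1
      (Presheaf.isSheaf_comp_of_isSheaf _ M.val.presheaf (forget AddCommGrpCat.{u}) M.isSheaf)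
  obtain ⟨W⟩ := W
  refine ((hM _ (J.overEquiv_symm_mem_over W _ hcov)).isSeparatedFor).ext fun V g hg => ?_
  apply hunit (op V)
  refine (PresheafOfModules.naturality_apply _ g.op x).trans
    (Eq.trans ?_ (PresheafOfModules.naturality_apply _ g.op y).symm)
  exact hg

instance faithful_extZero : (extZero O U).Faithful := by
  suffices h : ∀ {M N : Mod (O.over U)} (f : M ⟶ N), (toPre (O.over U) ⋙ extPre O U ⋙ shPre O).map f = 0 → f = 0 by
    have : (toPre (O.over U) ⋙ extPre O U ⋙ shPre O).Additive :=
      Functor.additive_of_iso (extZeroIso O U)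
    have : (toPre (O.over U) ⋙ extPre O U ⋙ shPre O).Faithful := ⟨fun {M N f g} e =>
      sub_eq_zero.1 (h (f - g) (by rw [Functor.map_sub, e, sub_self]))⟩
    exact Functor.Faithful.of_iso (extZeroIso O U).symm
  intro M N f hf
  have e : (toPre _).map f ≫ unitPre O U N = 0 := by
    unfold unitPre
    rw [← Category.assoc]
    refine (congrArg (· ≫ _) ((extPreAdj O U).unit.naturality ((toPre _).map f))).trans ?_
    refine (Category.assoc _ _ _).trans ?_
    refine (congrArg (fun t => _ ≫ t) ((restrPre O U).map_comp _ _).symm).trans ?_
    refine (congrArg (fun t => _ ≫ (restrPre O U).map t)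
      ((preAdj O).unit.naturality ((extPre O U).map ((toPre _).map f)))).trans ?_
    rw [Functor.comp_map]
    erw [hf]
    simp
  apply SheafOfModules.hom_ext
  refine PresheafOfModules.hom_ext fun W => ModuleCat.hom_ext (LinearMap.ext fun x => ?_)
  apply unitPre_injective O U N W
  refine (congrArg (fun t => t.app W x) e).trans ?_
  exact (map_zero ((unitPre O U N).app W).hom).symm

end Groth.Agent.ModExt
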