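import Groth.Agent.ModExt.Restr
import Groth.Agent.KFlat.TotMap

/-!
# The projection formula for total complexes
-/

set_option autoImplicit false

universe u

open CategoryTheory CategoryTheory.Limits MonoidalCategory Opposite
open ModSite Groth.Agent.KFlat

namespace Groth.Agent.ModExt

variable {C : Type u} [SmallCategory C] {J : GrothendieckTopology C} (O : Sheaf J CommRingCat.{u})
  (U : C)

theorem projIso_app (M : Mod (O.over U)) (N : Mod O) :
    (projIso O U N).hom.app M = (projIsoLeft O U M).hom.app N := by
  rfl

/-- `(a, b) ↦ a ⊗ b|_U`. -/
noncomputable def tensorRestr : Mod (O.over U) ⥤ Mod O ⥤ Mod (O.over U) :=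
  tensorBi (O.over U) ⋙ (Functor.whiskeringLeft _ _ _).obj (restr O U)

instance additive_tensorRestr : (tensorRestr O U).Additive where
  map_add := by
    intro a a' f g
    apply NatTrans.ext; funext b
    exact congrArg (fun t => t.app ((restr O U).obj b))
      ((tensorBi (O.over U)).map_add (f := f) (g := g))

instance additive_tensorRestr_obj (a : Mod (O.over U)) : ((tensorRestr O U).obj a).Additive :=
  inferInstanceAs (restr O U ⋙ (tensorBi (O.over U)).obj a).Additive

instance hasMapBifunctor_tensorRestr (L : CochainComplex (Mod (O.over U)) ℤ)
    (K : CochainComplex (Mod O) ℤ) :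
    HomologicalComplex.HasMapBifunctor L K (tensorRestr O U) (ComplexShape.up ℤ) :=
  fun _ => inferInstance

/-- Restricting the second factor of a total complex. -/
noncomputable def totRestrIso (L : CochainComplex (Mod (O.over U)) ℤ) (K : CochainComplex (Mod O) ℤ) :
    ((tot (tensorRestr O U)).obj L).obj K ≅
      ((tensorCx (O.over U)).obj L).obj (((restr O U).mapHomologicalComplex _).obj K) :=
  totMapIso (tensorRestr O U) (tensorBi (O.over U)) (𝟭 _) (restr O U) (𝟭 _) (fun _ _ => Iso.refl _)
    (fun _ _ => (Category.comp_id _).trans (Category.id_comp _).symm)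
    (fun _ _ _ _ => (Category.comp_id _).trans (Category.id_comp _).symm) L K

/-- The projection formula for total complexes. -/
noncomputable def projCxIso (L : CochainComplex (Mod (O.over U)) ℤ) (K : CochainComplex (Mod O) ℤ) :
    ((extZero O U).mapHomologicalComplex _).obj
        (((tensorCx (O.over U)).obj L).obj (((restr O U).mapHomologicalComplex _).obj K)) ≅
      ((tensorCx O).obj (((extZero O U).mapHomologicalComplex _).obj L)).obj K :=
  haveI : PreservesColimitsOfSize.{0, 0} (extZero O U) :=
    (extZeroAdj O U).leftAdjoint_preservesColimits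
  ((extZero O U).mapHomologicalComplex _).mapIso (totRestrIso O U L K).symm ≪≫
    totMapIso (tensorRestr O U) (tensorBi O) (extZero O U) (𝟭 _) (extZero O U)
      (fun a b => (projIso O U b).app a)
      (fun f b => (projIso O U b).hom.naturality f)
      (fun a _ _ g => by
        rw [Iso.app_hom, Iso.app_hom, projIso_app, projIso_app]
        exact (projIsoLeft O U a).hom.naturality g) L K

end Groth.Agent.ModExt
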