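import Groth.Agent.ModExt.Tensor
import Groth.Agent.ModFlat.Basic

/-!
# Restriction of tensor products; flatness and restriction
-/

set_option autoImplicit false

universe u

open CategoryTheory CategoryTheory.Limits MonoidalCategory Opposite
open ModSite Groth.Agent.KFlat

namespace Groth.Agent.ModExt

variable {C : Type u} [SmallCategory C] {J : GrothendieckTopology C} (O : Sheaf J CommRingCat.{u})
  (U : C)

/-- Restriction commutes with sheafification. -/
noncomputable def shPreRestrIso : restrPre O U ⋙ shPre (O.over U) ≅ shPre O ⋙ restr O U :=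
  Groth.Agent.ModFlat.Cocont.restSheafifyIso (F := Over.forget U) (J := J.over U) (K := J)
    (𝟙 ((ringSh O).over U))

/-- Restriction commutes with the tensor product, naturally on the left. -/
noncomputable def restrTensorIso (N : Mod O) :
    (tensorBi O).flip.obj N ⋙ restr O U ≅ restr O U ⋙ (tensorBi (O.over U)).flip.obj ((restr O U).obj N) :=
  Functor.isoWhiskerLeft (toPre O ⋙ tensorRight ((toPre O).obj N)) (shPreRestrIso O U).symm ≪≫
    Functor.isoWhiskerLeft (toPre O) (Functor.isoWhiskerRight
      (NatIso.ofComponents (fun A => (restrPreTensor O U A ((toPre O).obj N)).symm)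
        (fun {A B} a => by
          rw [Iso.symm_hom, Iso.symm_hom, Iso.eq_inv_comp, ← Category.assoc, Iso.comp_inv_eq]
          have h := restrPreTensor_natural O U a (𝟙 ((toPre O).obj N))
          rw [CategoryTheory.Functor.map_id, tensorHom_id, tensorHom_id] at h
          exact h.symm) :
        tensorRight ((toPre O).obj N) ⋙ restrPre O U ≅
          restrPre O U ⋙ tensorRight ((restrPre O U).obj ((toPre O).obj N)))
      (shPre (O.over U)))

/-- Tensoring with the structure sheaf does nothing. -/
noncomputable def unitTensorIso (M : Mod O) :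
    ((tensorBi O).obj (SheafOfModules.unit _)).obj M ≅ M :=
  (shPre O).mapIso (λ_ ((toPre O).obj M)) ≪≫ (asIso (preAdj O).counit).app M

/-- `j_{U!} O_U ⊗ M` is `j_{U!} (M|_U)`. -/
noncomputable def freeOnTensorIso (M : Mod O) :
    ((tensorBi O).obj (freeOn O U)).obj M ≅ (extZero O U).obj ((restr O U).obj M) :=
  ((projIso O U M).app (SheafOfModules.unit _)).symm ≪≫
    (extZero O U).mapIso (unitTensorIso (O.over U) ((restr O U).obj M))

theorem tensorMono_restr {M : Mod O} (h : TensorMono M) : TensorMono ((restr O U).obj M) := by
  have : ((tensorBi O).flip.obj M).PreservesMonomorphisms := h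
  have : ((tensorBi (O.over U)).flip.obj ((restr O U).obj M) ⋙ extZero O U).PreservesMonomorphisms :=
    Functor.PreservesMonomorphisms.of_iso (projIso O U M).symm
  exact ⟨fun φ _ => (extZero O U).mono_of_mono_map
    ((inferInstance : Mono (((tensorBi (O.over U)).flip.obj ((restr O U).obj M) ⋙ extZero O U).map φ)))⟩

theorem tensorMono_extZero {M : Mod (O.over U)} (h : TensorMono M) :
    TensorMono ((extZero O U).obj M) := by
  have : ((tensorBi (O.over U)).flip.obj M).PreservesMonomorphisms := h
  have : ((tensorBi (O.over U)).obj M).PreservesMonomorphisms :=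
    Functor.PreservesMonomorphisms.of_iso ((tensorBiFlipIso (O.over U)).app M)
  have : (restr O U).PreservesMonomorphisms := inferInstance
  have : ((tensorBi O).obj ((extZero O U).obj M)).PreservesMonomorphisms :=
    Functor.PreservesMonomorphisms.of_iso (projIsoLeft O U M)
  exact Functor.PreservesMonomorphisms.of_iso ((tensorBiFlipIso O).app ((extZero O U).obj M)).symm

end Groth.Agent.ModExt
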