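import Groth.Agent.ModExt.Basic
import Groth.Prelude.Def_ModSite2

/-!
# Stalks of an extension by zero
-/

set_option autoImplicit false

universe u

open CategoryTheory CategoryTheory.Limits Opposite
open ModSite Groth.Agent.KFlat
open Groth.Agent.Topos

namespace Groth.Agent.ModExt

open scoped Classical

variable {C : Type u} [SmallCategory C] {J : GrothendieckTopology C} (O : Sheaf J CommRingCat.{u})
  (U : C) (P : PresheafOfModules.{u} ((ringSh O).over U).obj)
  (p : GrothendieckTopology.Point.{u} J)

/-- The sum of the stalks over `U`. -/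
noncomputable abbrev stalkSum : AddCommGrpCat.{u} :=
  ∐ fun x : p.fiber.obj U => (p.over x).presheafFiber.obj P.presheaf

/-- The germ at a point of the slice, in the sum. -/
noncomputable def germSum (W : Over U) (v : p.fiber.obj W.left) (x : p.fiber.obj U)
    (h : p.fiber.map W.hom v = x) :
    P.presheaf.obj (op W) ⟶ stalkSum O U P p :=
  (p.over x).toPresheafFiber W ⟨v, h⟩ P.presheaf ≫
    Sigma.ι (fun x : p.fiber.obj U => (p.over x).presheafFiber.obj P.presheaf) x

theorem germSum_congr (W : Over U) (v : p.fiber.obj W.left) (x x' : p.fiber.obj U)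
    (h : p.fiber.map W.hom v = x) (h' : p.fiber.map W.hom v = x') :
    germSum O U P p W v x h = germSum O U P p W v x' h' := by
  subst h h'
  rfl

theorem germSum_w {W W' : Over U} (g : W ⟶ W') (v : p.fiber.obj W.left) (x : p.fiber.obj U)
    (h : p.fiber.map W.hom v = x) (h' : p.fiber.map W'.hom (p.fiber.map g.left v) = x) :
    P.presheaf.map g.op ≫ germSum O U P p W v x h =
      germSum O U P p W' (p.fiber.map g.left v) x h' :=
  ((p.over x).toPresheafFiber_w_assoc g ⟨v, h⟩ P.presheaf _)

/-- The comparison on sections. -/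
noncomputable def sumGerm (V : C) (v : p.fiber.obj V) :
    (ModExtZero.pre P).obj (op V) ⟶ stalkSum O U P p :=
  AddCommGrpCat.ofHom (DirectSum.toAddMonoid fun f =>
    (germSum O U P p (Over.mk f) v (p.fiber.map f v) rfl).hom)

theorem sumGerm_inc (V : C) (v : p.fiber.obj V) (f : V ⟶ U) (m : ModExtZero.fib P V f) :
    (sumGerm O U P p V v).hom (ModExtZero.inc P V f m) =
      (germSum O U P p (Over.mk f) v (p.fiber.map f v) rfl).hom m :=
  DirectSum.toAddMonoid_of _ _ _

/-- The stalk of `⨁` maps to the sum of the stalks. -/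
noncomputable def toStalkSum : p.presheafFiber.obj (ModExtZero.pre P) ⟶ stalkSum O U P p :=
  p.presheafFiberDesc (sumGerm O U P p) (fun V W g v => by
    refine AddCommGrpCat.hom_ext (DirectSum.addHom_ext fun f m => ?_)
    change (sumGerm O U P p V v).hom (ModExtZero.sumMap P g (ModExtZero.inc P W f m)) =
      (sumGerm O U P p W (p.fiber.map g v)).hom (ModExtZero.inc P W f m)
    rw [ModExtZero.sumMap_inc, sumGerm_inc, sumGerm_inc]
    have e : p.fiber.map (Over.mk (g ≫ f) : Over U).hom v = p.fiber.map f (p.fiber.map g v) :=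
      Functor.map_comp_apply p.fiber g f v
    refine (ConcreteCategory.congr_hom (germSum_congr O U P p (Over.mk (g ≫ f)) v _ _ rfl e)
      (ModExtZero.res P g f m)).trans ?_
    exact ConcreteCategory.congr_hom
      (germSum_w O U P p (Over.homMk g : Over.mk (g ≫ f) ⟶ Over.mk f) v _ e rfl) m)

theorem toStalkSum_germ (V : C) (v : p.fiber.obj V) :
    p.toPresheafFiber V v (ModExtZero.pre P) ≫ toStalkSum O U P p = sumGerm O U P p V v :=
  GrothendieckTopology.Point.toPresheafFiber_presheafFiberDesc _ _ _ V v

/-- The inclusion of a fibre, as a morphism of abelian groups. -/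
noncomputable def incHom (W : Over U) : P.presheaf.obj (op W) ⟶ (ModExtZero.pre P).obj (op W.left) :=
  AddCommGrpCat.ofHom (ModExtZero.inc P W.left W.hom).toAddMonoidHom

theorem incHom_map {W W' : Over U} (g : W ⟶ W') :
    P.presheaf.map g.op ≫ incHom O U P W = incHom O U P W' ≫ (ModExtZero.pre P).map g.left.op :=
  AddCommGrpCat.hom_ext (AddMonoidHom.ext fun m => ModExtZero.inc_map P g m)

/-- The inclusion of a stalk over `U` into the stalk of `⨁`. -/
noncomputable def fromStalk (x : p.fiber.obj U) :
    (p.over x).presheafFiber.obj P.presheaf ⟶ p.presheafFiber.obj (ModExtZero.pre P) :=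
  (p.over x).presheafFiberDesc
    (fun W v => incHom O U P W ≫ p.toPresheafFiber W.left v.1 (ModExtZero.pre P))
    (fun W W' g v => by
      rw [← Category.assoc, incHom_map, Category.assoc]
      exact congrArg (incHom O U P W' ≫ ·) (p.toPresheafFiber_w g.left v.1 (ModExtZero.pre P)))

theorem fromStalk_germ (W : Over U) (v : p.fiber.obj W.left) (x : p.fiber.obj U)
    (h : p.fiber.map W.hom v = x) :
    (p.over x).toPresheafFiber W ⟨v, h⟩ P.presheaf ≫ fromStalk O U P p x =
      incHom O U P W ≫ p.toPresheafFiber W.left v (ModExtZero.pre P) :=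
  GrothendieckTopology.Point.toPresheafFiber_presheafFiberDesc _ _ _ W _

/-- The stalk of `⨁` is the sum of the stalks. -/
noncomputable def stalkPreIso : p.presheafFiber.obj (ModExtZero.pre P) ≅ stalkSum O U P p where
  hom := toStalkSum O U P p
  inv := Sigma.desc (fromStalk O U P p)
  hom_inv_id := by
    refine p.presheafFiber_hom_ext fun V v => ?_
    rw [reassoc_of% (toStalkSum_germ O U P p V v), Category.comp_id]
    refine AddCommGrpCat.hom_ext (DirectSum.addHom_ext fun f m => ?_)
    change (Sigma.desc (fromStalk O U P p)).hom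
        ((sumGerm O U P p V v).hom (ModExtZero.inc P V f m)) =
      (p.toPresheafFiber V v (ModExtZero.pre P)).hom (ModExtZero.inc P V f m)
    rw [sumGerm_inc]
    have := ConcreteCategory.congr_hom
      ((congrArg ((p.over (p.fiber.map f v)).toPresheafFiber (Over.mk f) ⟨v, rfl⟩ P.presheaf ≫ ·)
        (Sigma.ι_desc (fromStalk O U P p) (p.fiber.map f v))).trans
        (fromStalk_germ O U P p (Over.mk f) v _ rfl)) m
    exact this
  inv_hom_id := by
    refine Sigma.hom_ext _ _ fun x => (p.over x).presheafFiber_hom_ext fun W v => ?_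
    obtain ⟨v, h⟩ := v
    rw [Sigma.ι_desc_assoc, Category.comp_id, reassoc_of% (fromStalk_germ O U P p W v x h),
      toStalkSum_germ]
    refine AddCommGrpCat.hom_ext (AddMonoidHom.ext fun m => ?_)
    refine (sumGerm_inc O U P p W.left v W.hom m).trans ?_
    exact ConcreteCategory.congr_hom (germSum_congr O U P p W v _ x rfl h) m

end Groth.Agent.ModExt
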