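import Groth.Agent.ModExt.Basic
import Mathlib.LinearAlgebra.DirectSum.TensorProduct

/-!
# Restriction, extension by zero and tensor products
-/

set_option autoImplicit false

universe u

open CategoryTheory CategoryTheory.Limits MonoidalCategory Opposite
open ModSite Groth.Agent.KFlat
open Groth.Agent.Topos

namespace Groth.Agent.ModExt

open scoped Classical

variable {C : Type u} [SmallCategory C] {J : GrothendieckTopology C} (O : Sheaf J CommRingCat.{u})
  (U : C)

/-- Restriction is strict monoidal on presheaves. -/
noncomputable def restrPreTensor (A B : preMod O) :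
    (restrPre O U).obj A ⊗ (restrPre O U).obj B ≅ (restrPre O U).obj (A ⊗ B) :=
  PresheafOfModules.isoMk (fun _ => Iso.refl _)
    (fun _ _ _ => ModuleCat.MonoidalCategory.tensor_ext (fun _ _ => rfl))

theorem restrPreTensor_natural {A A' B B' : preMod O} (a : A ⟶ A') (b : B ⟶ B') :
    ((restrPre O U).map a ⊗ₘ (restrPre O U).map b) ≫ (restrPreTensor O U A' B').hom =
      (restrPreTensor O U A B).hom ≫ (restrPre O U).map (a ⊗ₘ b) :=
  PresheafOfModules.hom_ext fun _ => ModuleCat.MonoidalCategory.tensor_ext (fun _ _ => rfl)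

/-- The values of a presheaf of modules on `C/U`. -/
noncomputable def fibM (Q : preMod (O.over U)) (V : C) (f : V ⟶ U) :
    ModuleCat.{u} (O.obj.obj (op V)) :=
  Q.obj (op (Over.mk f))

/-- The values of a presheaf of modules. -/
noncomputable def secM (N : preMod O) (V : C) : ModuleCat.{u} (O.obj.obj (op V)) :=
  N.obj (op V)

variable (P : preMod (O.over U)) (N : preMod O)

/-- The transpose is given by `ModExtZero.desc`. -/
theorem homEquiv_symm_eq {Q : preMod (O.over U)} {M : preMod O} (α : Q ⟶ (restrPre O U).obj M) :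
    ((extPreAdj O U).homEquiv Q M).symm α = ModExtZero.desc α := by
  apply ((extPreAdj O U).homEquiv Q M).injective
  rw [Equiv.apply_symm_apply]
  refine Eq.trans ?_ ((extPreAdj O U).homEquiv_unit Q M (ModExtZero.desc α)).symm
  rw [ModExtZero.unit_eq]
  exact PresheafOfModules.hom_ext fun W => ModuleCat.hom_ext (LinearMap.ext fun m =>
    (ModExtZero.sumDesc_inc (X := U) (A := ringSh O) (M := Q) (N := M) α W.unop.left W.unop.hom m).symm)

/-- The projection map. -/
noncomputable def projHom :
    (extPre O U).obj (P ⊗ (restrPre O U).obj N) ⟶ (extPre O U).obj P ⊗ N :=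
  ((extPreAdj O U).homEquiv _ _).symm
    (((extPreAdj O U).unit.app P ▷ (restrPre O U).obj N) ≫ (restrPreTensor O U _ N).hom)

theorem projHom_natural {P P' : preMod (O.over U)} {N N' : preMod O} (a : P ⟶ P') (b : N ⟶ N') :
    (extPre O U).map (a ⊗ₘ (restrPre O U).map b) ≫ projHom O U P' N' =
      projHom O U P N ≫ ((extPre O U).map a ⊗ₘ b) := by
  apply ((extPreAdj O U).homEquiv _ _).injective
  rw [Adjunction.homEquiv_naturality_left, Adjunction.homEquiv_naturality_right, projHom, projHom,
    Equiv.apply_symm_apply, Equiv.apply_symm_apply, Category.assoc, ← restrPreTensor_natural,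
    ← tensorHom_id, ← tensorHom_id, ← Category.assoc, ← Category.assoc,
    tensorHom_comp_tensorHom, tensorHom_comp_tensorHom, Category.id_comp, Category.comp_id]
  exact congrArg (fun t => (t ⊗ₘ (restrPre O U).map b) ≫ _) ((extPreAdj O U).unit.naturality a)

theorem projHom_inc (V : C) (f : V ⟶ U) (p : fibM O U P V f) (n : secM O N V) :
    (projHom O U P N).app (op V)
      (ModExtZero.inc (X := U) (A := ringSh O) (P ⊗ (restrPre O U).obj N : preMod (O.over U)) V f
        (p ⊗ₜ[O.obj.obj (op V)] n : TensorProduct (O.obj.obj (op V)) (fibM O U P V f) (secM O N V))) =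
      ((ModExtZero.inc (X := U) (A := ringSh O) P V f p) ⊗ₜ[O.obj.obj (op V)] n :
        TensorProduct (O.obj.obj (op V)) (secM O ((extPre O U).obj P) V) (secM O N V)) := by
  rw [projHom, homEquiv_symm_eq]
  exact (ModExtZero.sumDesc_inc (X := U) (A := ringSh O) _ V f _).trans rfl

/-- The projection map on sections. -/
noncomputable def projEquiv (V : C) :
    (DirectSum (V ⟶ U) fun f => TensorProduct (O.obj.obj (op V)) (fibM O U P V f) (secM O N V))
      ≃ₗ[O.obj.obj (op V)]
      TensorProduct (O.obj.obj (op V)) (DirectSum (V ⟶ U) fun f => fibM O U P V f) (secM O N V) :=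
  (TensorProduct.directSumLeft (O.obj.obj (op V)) (O.obj.obj (op V))
    (fun f => fibM O U P V f) (secM O N V)).symm

theorem projHom_bijective (V : C) : Function.Bijective ((projHom O U P N).app (op V)) := by
  let φ : (DirectSum (V ⟶ U) fun f => TensorProduct (O.obj.obj (op V)) (fibM O U P V f) (secM O N V))
      →ₗ[O.obj.obj (op V)]
      TensorProduct (O.obj.obj (op V)) (DirectSum (V ⟶ U) fun f => fibM O U P V f) (secM O N V) :=
    ((projHom O U P N).app (op V)).hom
  suffices h : φ = (projEquiv O U P N V : _ →ₗ[O.obj.obj (op V)] _) by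
    change Function.Bijective φ
    rw [h]
    exact LinearEquiv.bijective _
  refine DirectSum.linearMap_ext _ fun f => TensorProduct.ext' fun p n => ?_
  refine (projHom_inc O U P N V f p n).trans ?_
  exact (TensorProduct.directSumLeft_symm_lof_tmul (R := O.obj.obj (op V)) (S := O.obj.obj (op V))
    (M₁ := fun f => fibM O U P V f) (M₂' := secM O N V) f p n).symm

instance isIso_projHom : IsIso (projHom O U P N) := by
  have : IsIso ((PresheafOfModules.toPresheaf _).map (projHom O U P N)) := by
    rw [NatTrans.isIso_iff_isIso_app]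
    intro V
    rw [ConcreteCategory.isIso_iff_bijective]
    exact projHom_bijective O U P N V.unop
  exact isIso_of_reflects_iso _ (PresheafOfModules.toPresheaf _)

/-- The projection formula for presheaves, as an isomorphism. -/
noncomputable def projPreIso :
    (extPre O U).obj (P ⊗ (restrPre O U).obj N) ≅ (extPre O U).obj P ⊗ N :=
  asIso (projHom O U P N)

theorem projPre_natural {P P' : preMod (O.over U)} {N N' : preMod O} (a : P ⟶ P') (b : N ⟶ N') :
    (extPre O U).map (a ⊗ₘ (restrPre O U).map b) ≫ (projPreIso O U P' N').hom =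
      (projPreIso O U P N).hom ≫ ((extPre O U).map a ⊗ₘ b) :=
  projHom_natural O U a b

/-- Extension by zero commutes with tensoring with a restriction, naturally on the left. -/
noncomputable def projPreNatIso :
    tensorRight ((restrPre O U).obj N) ⋙ extPre O U ≅ extPre O U ⋙ tensorRight N :=
  NatIso.ofComponents (fun P => projPreIso O U P N) (fun {P P'} a => by
    have h := projPre_natural O U a (𝟙 N)
    rw [CategoryTheory.Functor.map_id, tensorHom_id, tensorHom_id] at h
    exact h)

/-- The projection formula, naturally in the module on `C/U`. -/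
noncomputable def projIso (N : Mod O) :
    (tensorBi (O.over U)).flip.obj ((restr O U).obj N) ⋙ extZero O U ≅
      extZero O U ⋙ (tensorBi O).flip.obj N :=
  Functor.isoWhiskerLeft (toPre (O.over U) ⋙ tensorRight ((restrPre O U).obj ((toPre O).obj N)))
      (shPreExtZeroIso O U) ≪≫
    Functor.isoWhiskerLeft (toPre (O.over U))
      (Functor.isoWhiskerRight (projPreNatIso O U ((toPre O).obj N)) (shPre O)) ≪≫
    Functor.isoWhiskerLeft (toPre (O.over U) ⋙ extPre O U) (shPreCompTensorRight O N).symm ≪≫
    Functor.isoWhiskerRight (extZeroIso O U).symm ((tensorBi O).flip.obj N)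

/-- The projection formula, naturally in the module on `C`. -/
noncomputable def projIsoLeft (M : Mod (O.over U)) :
    restr O U ⋙ (tensorBi (O.over U)).obj M ⋙ extZero O U ≅
      (tensorBi O).obj ((extZero O U).obj M) :=
  let e₁ : tensorLeft ((toPre (O.over U)).obj M) ⋙ shPre (O.over U) ⋙ extZero O U ≅
      tensorLeft ((toPre (O.over U)).obj M) ⋙ extPre O U ⋙ shPre O :=
    Functor.isoWhiskerLeft _ (shPreExtZeroIso O U)
  let e₂ : restrPre O U ⋙ tensorLeft ((toPre (O.over U)).obj M) ⋙ extPre O U ≅
      tensorLeft ((extPre O U).obj ((toPre (O.over U)).obj M)) :=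
    NatIso.ofComponents (fun N => projPreIso O U _ N) (fun {N N'} b => by
      have h := projPre_natural O U (𝟙 ((toPre (O.over U)).obj M)) b
      rw [CategoryTheory.Functor.map_id, id_tensorHom, id_tensorHom] at h
      exact h)
  let e₃ : toPre O ⋙ tensorLeft ((extPre O U).obj ((toPre (O.over U)).obj M)) ⋙ shPre O ≅
      (tensorBi O).obj ((shPre O).obj ((extPre O U).obj ((toPre (O.over U)).obj M))) :=
    NatIso.ofComponents
      (fun N => (asIso ((shPre O).map ((preAdj O).unit.app _ ▷ (toPre O).obj N)) :))
      (fun {N N'} g => by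
        change (shPre O).map (_ ◁ (toPre O).map g) ≫ (shPre O).map (_ ▷ _) =
          (shPre O).map (_ ▷ _) ≫ (shPre O).map (_ ◁ (toPre O).map g)
        rw [← Functor.map_comp, ← Functor.map_comp, whisker_exchange])
  Functor.isoWhiskerLeft (toPre O ⋙ restrPre O U) e₁ ≪≫
    Functor.isoWhiskerLeft (toPre O) (Functor.isoWhiskerRight e₂ (shPre O)) ≪≫ e₃ ≪≫
    (tensorBi O).mapIso ((extZeroIso O U).app M).symm

end Groth.Agent.ModExt
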